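import Groth.Agent.GrpExtLib.Extend
import Groth.Agent.S11107
import Groth.Agent.NeronMapLib.Basic
import Groth.Agent.GrpInfLib.Comm

/-!
# Proper smooth group schemes over Dedekind rings have the Néron mapping property
-/

set_option autoImplicit false
set_option backward.isDefEq.respectTransparency false
set_option backward.isDefEq.respectTransparency.types false
set_option linter.style.haveILetI false
set_option linter.unusedSectionVars false
set_option maxHeartbeats 1000000

universe u

open CategoryTheory CategoryTheory.Limits AlgebraicGeometry TopologicalSpace MonoidalCategory CartesianMonoidalCategory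
open MonObj
open Groth.Agent.AVExtLib

noncomputable section

namespace Groth.Agent.GrpExtLib

variable {R : Type u} [CommRing R] [IsDedekindDomain R] (K : Type u) [Field K] [Algebra R K] [IsFractionRing R K]

omit [IsDedekindDomain R] in
theorem range_gen [IsDomain R] :
    Set.range (Spec.map (CommRingCat.ofHom (algebraMap R K))) = {(⟨⊥, Ideal.isPrime_bot⟩ : PrimeSpectrum R)} := by
  ext p
  constructor
  · rintro ⟨t, rfl⟩
    refine PrimeSpectrum.ext ?_
    show (t : PrimeSpectrum K).asIdeal.comap (algebraMap R K) = ⊥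
    rw [(Ideal.eq_bot_or_top (t : PrimeSpectrum K).asIdeal).resolve_right t.isPrime.ne_top,
      Ideal.comap_bot_of_injective _ (IsFractionRing.injective R K)]
  · rintro rfl
    refine ⟨IsLocalRing.closedPoint K, PrimeSpectrum.ext ?_⟩
    show (IsLocalRing.maximalIdeal K).comap (algebraMap R K) = ⊥
    rw [IsLocalRing.maximalIdeal_eq_bot, Ideal.comap_bot_of_injective _ (IsFractionRing.injective R K)]

/-- Morphisms to separated schemes agreeing on the generic fibre of a smooth scheme are equal. -/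
theorem hom_ext_generic {Z A : Scheme.{u}} (pZ : Z ⟶ Spec (CommRingCat.of R)) [Smooth pZ]
    (pA : A ⟶ Spec (CommRingCat.of R)) [IsSeparated pA] (a b : Z ⟶ A) (ha : a ≫ pA = pZ) (hb : b ≫ pA = pZ)
    (h : pullback.fst pZ (Spec.map (CommRingCat.ofHom (algebraMap R K))) ≫ a =
      pullback.fst pZ (Spec.map (CommRingCat.ofHom (algebraMap R K))) ≫ b) : a = b := by
  haveI : IsReduced Z := ASp.isReduced_of_smooth pZ
  haveI := GrpInfLib.isDominant_fraction R K
  haveI : IsDominant (pullback.fst pZ (Spec.map (CommRingCat.ofHom (algebraMap R K)))) := by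
    rw [isDominant_iff, DenseRange]
    show Dense (Set.range _)
    rw [Scheme.Pullback.range_fst]
    exact (IsDominant.denseRange (f := Spec.map (CommRingCat.ofHom (algebraMap R K)))).preimage pZ.isOpenMap
  exact ext_of_isDominant_of_isSeparated pA (ha.trans hb.symm) _ h

/-- Each fibre has its maximal points in codimension at most one. -/
theorem exists_generalization {T : Scheme.{u}} (pT : T ⟶ Spec (CommRingCat.of R)) [LocallyOfFiniteType pT] (t : T) :
    ∃ t' : T, t' ⤳ t ∧ pT t' = pT t ∧ ringKrullDim (T.presheaf.stalk t') ≤ 1 := by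
  haveI : IsLocallyNoetherian T := LocallyOfFiniteType.isLocallyNoetherian pT
  let s := pT t
  let A := (Spec (CommRingCat.of R)).presheaf.stalk s
  haveI : (IsLocalRing.maximalIdeal A).IsPrincipal := by
    let L := Localization.AtPrime (PrimeSpectrum.asIdeal s)
    haveI : IsDedekindDomain L := IsLocalization.isDedekindDomain R (Ideal.primeCompl_le_nonZeroDivisors (PrimeSpectrum.asIdeal s)) L
    haveI : IsPrincipalIdealRing L := IsPrincipalIdealRing.of_finite_primes
      (((Set.finite_singleton (⊥ : Ideal L)).insert (IsLocalRing.maximalIdeal L)).subset fun P hP => by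
        rcases eq_or_ne P ⊥ with h | h
        · exact Or.inr h
        · exact Or.inl (IsLocalRing.eq_maximalIdeal (hP.isMaximal h)))
    letI : Algebra R A := StructureSheaf.stalkAlgebra R s
    haveI : IsLocalization.AtPrime A (PrimeSpectrum.asIdeal s) := StructureSheaf.IsLocalization.to_stalk R s
    let e : L ≃ₐ[R] A := IsLocalization.algEquiv (PrimeSpectrum.asIdeal s).primeCompl L A
    haveI : IsPrincipalIdealRing A := IsPrincipalIdealRing.of_surjective e.toRingEquiv.toRingHom e.surjective
    infer_instance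
  let J : Ideal (T.presheaf.stalk t) := (IsLocalRing.maximalIdeal A).map (pT.stalkMap t).hom
  haveI : J.IsPrincipal := by
    obtain ⟨π, hπ⟩ := (‹(IsLocalRing.maximalIdeal A).IsPrincipal›).principal
    refine ⟨⟨(pT.stalkMap t).hom π, ?_⟩⟩
    show Ideal.map _ (IsLocalRing.maximalIdeal A) = Ideal.span {(pT.stalkMap t).hom π}
    rw [show IsLocalRing.maximalIdeal A = Ideal.span {π} from hπ, Ideal.map_span, Set.image_singleton]
  have hJ : J ≤ IsLocalRing.maximalIdeal _ := Ideal.map_le_iff_le_comap.2 fun a ha hu =>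
    ha (isUnit_of_map_unit (pT.stalkMap t).hom a hu)
  obtain ⟨q, hq, -⟩ := Ideal.exists_minimalPrimes_le hJ
  haveI : q.IsPrime := hq.1.1
  let Q : PrimeSpectrum (T.presheaf.stalk t) := ⟨q, hq.1.1⟩
  refine ⟨T.fromSpecStalk t Q, specializes_fromSpecStalk t Q, ?_, ?_⟩
  · have e := congrArg (fun m : Spec (T.presheaf.stalk t) ⟶ Spec (CommRingCat.of R) => m Q)
      (Scheme.SpecMap_stalkMap_fromSpecStalk pT (x := t))
    simp only [Scheme.Hom.comp_apply] at e
    rw [← e]
    have hc : Spec.map (pT.stalkMap t) Q = IsLocalRing.closedPoint A := by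
      refine PrimeSpectrum.ext (IsLocalRing.le_maximalIdeal ?_ |>.antisymm ?_)
      · exact (Ideal.IsPrime.comap _).ne_top
      · exact Ideal.map_le_iff_le_comap.1 hq.1.2
    rw [hc, Scheme.fromSpecStalk_closedPoint]
  · letI := (T.presheaf.stalkSpecializes (specializes_fromSpecStalk t Q)).hom.toAlgebra
    haveI : IsLocalization.AtPrime (T.presheaf.stalk (T.fromSpecStalk t Q)) q :=
      isLocalization_fromSpecStalk t Q rfl _
    rw [IsLocalization.AtPrime.ringKrullDim_eq_height q]
    exact_mod_cast Ideal.height_le_one_of_isPrincipal_of_mem_minimalPrimes J q hq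

variable (N : Over (Spec (CommRingCat.of R))) [GrpObj N] [IsProper N.hom]

theorem exists_extension_integral (T : Over (Spec (CommRingCat.of R))) [Smooth T.hom] [IsSeparated T.hom]
    [IsIntegral T.left] (u : pullback T.hom (Spec.map (CommRingCat.ofHom (algebraMap R K))) ⟶ N.left)
    (hu : u ≫ N.hom = pullback.fst _ _ ≫ T.hom) :
    ∃ g : T.left ⟶ N.left, g ≫ N.hom = T.hom ∧ pullback.fst _ _ ≫ g = u := by
  let g₀ := Spec.map (CommRingCat.ofHom (algebraMap R K))
  let ξ := genericPoint T.left
  haveI := GrpInfLib.isDominant_fraction R K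
  have hne : Nonempty (pullback T.hom g₀ : Scheme.{u}) := by
    obtain ⟨z, hz⟩ := ((IsDominant.denseRange (f := g₀)).preimage T.hom.isOpenMap).nonempty
    rw [← Scheme.Pullback.range_fst] at hz
    exact ⟨hz.choose⟩
  have hξ : T.hom ξ = (⟨⊥, Ideal.isPrime_bot⟩ : PrimeSpectrum R) := by
    obtain ⟨w⟩ := hne
    have h1 : T.hom (pullback.fst T.hom g₀ w) ∈ Set.range g₀ :=
      ⟨pullback.snd T.hom g₀ w, by rw [← Scheme.Hom.comp_apply, ← pullback.condition, Scheme.Hom.comp_apply]⟩
    rw [range_gen, Set.mem_singleton_iff] at h1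
    have h2 : T.hom ξ ⤳ T.hom (pullback.fst T.hom g₀ w) := (genericPoint_specializes _).map T.hom.continuous
    rw [h1] at h2
    exact PrimeSpectrum.ext (le_bot_iff.1 ((PrimeSpectrum.le_iff_specializes _ _).2 h2))
  let ρ := Spec.preimage (T.left.fromSpecStalk ξ ≫ T.hom)
  have hρ : Spec.map ρ = T.left.fromSpecStalk ξ ≫ T.hom := Spec.map_preimage _
  have hρinj : Function.Injective ρ.hom := by
    rw [RingHom.injective_iff_ker_eq_bot, ← le_bot_iff]
    intro r hr
    have h1 : Spec.map ρ (IsLocalRing.closedPoint _) = (⟨⊥, Ideal.isPrime_bot⟩ : PrimeSpectrum R) := by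
      rw [hρ, Scheme.Hom.comp_apply, Scheme.fromSpecStalk_closedPoint, hξ]
    have h2 : r ∈ (Spec.map ρ (IsLocalRing.closedPoint _)).asIdeal := by
      show ρ.hom r ∈ IsLocalRing.maximalIdeal _
      rw [RingHom.mem_ker.1 hr]
      exact zero_mem _
    rwa [h1] at h2
  let ρK : K →+* T.left.functionField := IsFractionRing.lift (A := R) (g := ρ.hom) hρinj
  let ξK : Spec (T.left.presheaf.stalk ξ) ⟶ pullback T.hom g₀ :=
    pullback.lift (T.left.fromSpecStalk ξ) (Spec.map (CommRingCat.ofHom ρK)) (by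
      rw [← hρ, ← Spec.map_comp]
      congr 1
      ext r
      exact (IsFractionRing.lift_algebraMap hρinj r).symm)
  haveI : T.left.IsGermInjectiveAt ξ := inferInstance
  obtain ⟨V, hξV, v, hv, hv'⟩ := spread_out_of_isGermInjective' T.hom N.hom (x := ξ) (ξK ≫ u) (by
    rw [Category.assoc, hu, ← Category.assoc, pullback.lift_fst])
  have hVd : Dense (V : Set T.left) := V.2.dense ⟨ξ, hξV⟩
  obtain ⟨U, hVU, f, hf, hfV, hU1⟩ := S11107.result T.hom N.hom V hVd v hv'
  haveI : IsRegularRing R := inferInstance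
  haveI : IsLocallyNoetherian T.left := LocallyOfFiniteType.isLocallyNoetherian T.hom
  haveI : Smooth (T ⊗ T).hom := by
    haveI : Smooth (pullback.fst T.hom T.hom) := MorphismProperty.pullback_fst _ _ inferInstance
    exact inferInstanceAs (Smooth (pullback.fst T.hom T.hom ≫ T.hom))
  haveI : IsLocallyNoetherian (T ⊗ T).left := LocallyOfFiniteType.isLocallyNoetherian (T ⊗ T).hom
  have hU1' : ∀ y, ringKrullDim (T.left.presheaf.stalk y) ≤ 1 → y ∈ U := fun y hy => by
    by_contra h
    exact absurd (le_trans (hU1 y h) hy) (by decide)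
  obtain ⟨g', hg'⟩ := exists_extension (S11107.isRegularLocalRing_stalk T.hom)
    (S11107.isRegularLocalRing_stalk (T ⊗ T).hom) ⟨ξ, hVU hξV⟩ (Over.homMk f hf : opn T U ⟶ N) hU1' (fun O t ht => by
      obtain ⟨t', h1, h2, h3⟩ := exists_generalization T.hom t
      exact ⟨t', ⟨h1.mem_open O.2 ht, hU1' t' h3⟩, h2⟩)
  refine ⟨g'.left, Over.w g', ?_⟩
  haveI : IsReduced (pullback T.hom g₀) := ASp.isReduced_of_smooth (pullback.snd T.hom g₀)
  haveI : IsPreimmersion g₀ := IsPreimmersion.of_isLocalization (nonZeroDivisors R)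
  haveI : IsPreimmersion (pullback.fst T.hom g₀) := MorphismProperty.pullback_fst _ _ inferInstance
  haveI : IsDominant ξK := ⟨fun z => by
    have h : ξK (IsLocalRing.closedPoint (T.left.presheaf.stalk ξ)) ⤳ z := by
      refine (pullback.fst T.hom g₀).isEmbedding.isInducing.specializes_iff.1 ?_
      rw [← Scheme.Hom.comp_apply, pullback.lift_fst, Scheme.fromSpecStalk_closedPoint]
      exact genericPoint_specializes _
    exact closure_mono (Set.singleton_subset_iff.2 (Set.mem_range_self _)) h.mem_closure⟩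
  refine ext_of_isDominant_of_isSeparated N.hom (by rw [Category.assoc, Over.w g', hu]) ξK ?_
  rw [hv, ← Category.assoc, pullback.lift_fst, ← hfV, ← Category.assoc, fromSpecStalkOfMem_homOfLE]
  have hg : g'.left = g'.left := rfl
  rw [show f = U.ι ≫ g'.left from (congrArg CommaMorphism.left hg').symm, ← Category.assoc,
    Scheme.Opens.fromSpecStalkOfMem_ι]

/-- The Néron mapping property of a proper smooth group scheme over a Dedekind ring. -/
theorem existsUnique_extension (Y : Over (Spec (CommRingCat.of R))) [Smooth Y.hom]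
    (u : pullback Y.hom (Spec.map (CommRingCat.ofHom (algebraMap R K))) ⟶ N.left)
    (hu : u ≫ N.hom = pullback.fst _ _ ≫ Y.hom) :
    ∃! g : Y.left ⟶ N.left, g ≫ N.hom = Y.hom ∧ pullback.fst _ _ ≫ g = u := by
  let g₀ := Spec.map (CommRingCat.ofHom (algebraMap R K))
  haveI : IsLocallyNoetherian Y.left := LocallyOfFiniteType.isLocallyNoetherian Y.hom
  have hloc : ∀ y : Y.left, ∃ W : Y.left.Opens, y ∈ W ∧ IsAffineOpen W ∧ IsIntegral (W : Scheme.{u}) := by
    intro y
    haveI := S11107.isRegularLocalRing_stalk Y.hom y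
    haveI : IsDomain (Y.left.presheaf.stalk y) := RegLocal.isDomain _
    obtain ⟨W₀, hy, hW₀⟩ := AffLim.exists_isIntegral_nhd (X := Y.left) y
    obtain ⟨W, hW, hyW, hle⟩ := exists_isAffineOpen_mem_and_subset (x := y) (U := W₀) hy
    haveI : Nonempty (W : Scheme.{u}) := ⟨⟨y, hyW⟩⟩
    exact ⟨W, hyW, hW, isIntegral_of_isOpenImmersion (Y.left.homOfLE hle)⟩
  choose W hyW hWa hWi using hloc
  have hext : ∀ y, ∃ g : (W y : Scheme.{u}) ⟶ N.left, g ≫ N.hom = (W y).ι ≫ Y.hom ∧
      pullback.fst ((W y).ι ≫ Y.hom) g₀ ≫ g =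
        pullback.map _ _ _ _ (W y).ι (𝟙 _) (𝟙 _) (by simp) (by simp [g₀]) ≫ u := fun y => by
    haveI := hWi y
    haveI : IsAffine (W y : Scheme.{u}) := hWa y
    haveI : IsSeparated ((W y).ι ≫ Y.hom) := inferInstance
    haveI : Smooth (Over.mk ((W y).ι ≫ Y.hom)).hom := inferInstanceAs (Smooth ((W y).ι ≫ Y.hom))
    haveI : IsIntegral (Over.mk ((W y).ι ≫ Y.hom)).left := hWi y
    haveI : IsSeparated (Over.mk ((W y).ι ≫ Y.hom)).hom := inferInstanceAs (IsSeparated ((W y).ι ≫ Y.hom))
    exact exists_extension_integral K N (Over.mk ((W y).ι ≫ Y.hom)) _ (by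
      rw [Category.assoc, hu, pullback.lift_fst_assoc, Category.assoc]
      rfl)
  choose g hg hgu using hext
  let 𝒰 := Y.left.openCoverOfIsOpenCover W (eq_top_iff.2 fun t _ => Opens.mem_iSup.2 ⟨t, hyW t⟩)
  have hglue : ∀ i j, pullback.fst (𝒰.f i) (𝒰.f j) ≫ g i = pullback.snd (𝒰.f i) (𝒰.f j) ≫ g j := by
    intro i j
    let pZ : pullback (W i).ι (W j).ι ⟶ Spec (CommRingCat.of R) := pullback.fst (W i).ι (W j).ι ≫ (W i).ι ≫ Y.hom
    have h2 : pullback.snd (W i).ι (W j).ι ≫ (W j).ι ≫ Y.hom = pZ := by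
      show _ = _ ≫ _
      rw [pullback.condition_assoc]
    refine hom_ext_generic K pZ N.hom (pullback.fst (W i).ι (W j).ι ≫ g i) (pullback.snd (W i).ι (W j).ι ≫ g j)
      (by rw [Category.assoc, hg]) (by rw [Category.assoc, hg, h2]) ?_
    let a : pullback pZ g₀ ⟶ pullback ((W i).ι ≫ Y.hom) g₀ :=
      pullback.lift (pullback.fst _ _ ≫ pullback.fst (W i).ι (W j).ι) (pullback.snd _ _)
        (by rw [Category.assoc]; exact pullback.condition)
    let b : pullback pZ g₀ ⟶ pullback ((W j).ι ≫ Y.hom) g₀ :=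
      pullback.lift (pullback.fst _ _ ≫ pullback.snd (W i).ι (W j).ι) (pullback.snd _ _)
        (by rw [Category.assoc, h2]; exact pullback.condition)
    have ha : a ≫ pullback.fst _ _ = pullback.fst _ _ ≫ pullback.fst (W i).ι (W j).ι := pullback.lift_fst _ _ _
    have hb : b ≫ pullback.fst _ _ = pullback.fst _ _ ≫ pullback.snd (W i).ι (W j).ι := pullback.lift_fst _ _ _
    rw [← reassoc_of% ha, ← reassoc_of% hb, hgu, hgu, ← Category.assoc, ← Category.assoc]
    congr 1
    apply pullback.hom_ext <;> simp [a, b, pullback.condition]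
  have hG : ∀ i, 𝒰.f i ≫ 𝒰.glueMorphisms g hglue = g i := fun i => 𝒰.ι_glueMorphisms g hglue i
  have hw : 𝒰.glueMorphisms g hglue ≫ N.hom = Y.hom := 𝒰.hom_ext _ _ fun i => by
    rw [← Category.assoc, hG]; exact hg i
  have hGu : pullback.fst Y.hom g₀ ≫ 𝒰.glueMorphisms g hglue = u := by
    refine Scheme.Cover.hom_ext (𝒰.pullback₁ (pullback.fst Y.hom g₀)) _ _ fun i => ?_
    let q : pullback (pullback.fst Y.hom g₀) (W i).ι ⟶ pullback ((W i).ι ≫ Y.hom) g₀ :=
      pullback.lift (pullback.snd _ _) (pullback.fst _ _ ≫ pullback.snd _ _) (by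
        rw [← pullback.condition_assoc, Category.assoc, pullback.condition])
    have hq : q ≫ pullback.map _ _ _ _ (W i).ι (𝟙 _) (𝟙 _) (by simp) (by simp) =
        pullback.fst (pullback.fst Y.hom g₀) (W i).ι := by
      apply pullback.hom_ext <;> simp [q, pullback.condition]
    show pullback.fst (pullback.fst Y.hom g₀) (W i).ι ≫ _ = pullback.fst (pullback.fst Y.hom g₀) (W i).ι ≫ u
    rw [← reassoc_of% hq, ← reassoc_of% hq, ← hgu, pullback.lift_fst_assoc, Category.assoc]
    exact congrArg (fun m => q ≫ pullback.fst _ _ ≫ m) (hG i)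
  exact ⟨𝒰.glueMorphisms g hglue, ⟨hw, hGu⟩, fun g' hg' =>
    hom_ext_generic K Y.hom N.hom g' _ hg'.1 hw (hg'.2.trans hGu.symm)⟩

/-- A proper smooth group scheme over a Dedekind ring has the Néron mapping property. -/
theorem bijective_restrict (Y : Over (Spec (CommRingCat.of R))) [Smooth Y.hom] :
    Function.Bijective (fun g : Y ⟶ N =>
      (Over.pullback (Spec.map (CommRingCat.ofHom (algebraMap R K)))).map g) :=
  (NeronMapLib.bijective_iff _ Y N (IsPullback.of_hasPullback _ _)).2 fun u hu => existsUnique_extension K N Y u hu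

end Groth.Agent.GrpExtLib
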