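import Groth.Agent.AVExtLib.Rational
import Groth.Agent.AffLim.Integral
import Groth.Agent.ASp.PropDescend
import Groth.Agent.S5335

/-!
# Rational maps to separated group schemes

A rational map from a smooth scheme with regular self product to a separated group scheme, defined at the
points of codimension one and on a dense open of each fibre, is everywhere defined.
-/

set_option autoImplicit false
set_option backward.isDefEq.respectTransparency false
set_option backward.isDefEq.respectTransparency.types false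
set_option linter.style.haveILetI false
set_option linter.unusedSectionVars false
set_option maxHeartbeats 1000000

universe u

open CategoryTheory CategoryTheory.Limits AlgebraicGeometry TopologicalSpace MonoidalCategory CartesianMonoidalCategory
open MonObj
open Groth.Agent.AVExtLib

noncomputable section

namespace Groth.Agent.GrpExtLib

/-- A morphism from the spectrum of a local ring goes through the local ring of any point to which the image specializes. -/
theorem exists_specMap_fromSpecStalk {X : Scheme.{u}} {R : CommRingCat.{u}} [IsLocalRing R] (m : Spec R ⟶ X) {e : X}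
    (he : m (IsLocalRing.closedPoint R) ⤳ e) :
    ∃ ψ : X.presheaf.stalk e ⟶ R, Spec.map ψ ≫ X.fromSpecStalk e = m :=
  ⟨X.presheaf.stalkSpecializes he ≫ Scheme.stalkClosedPointTo m, by
    rw [Spec.map_comp, Category.assoc, Scheme.SpecMap_stalkSpecializes_fromSpecStalk,
      Scheme.Spec_stalkClosedPointTo_fromSpecStalk]⟩

theorem fromSpecStalkOfMem_closedPoint {X : Scheme.{u}} (W : X.Opens) (x : X) (hx : x ∈ W) :
    W.fromSpecStalkOfMem x hx (IsLocalRing.closedPoint (X.presheaf.stalk x)) = ⟨x, hx⟩ := by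
  refine W.ι.isOpenEmbedding.injective ?_
  rw [← Scheme.Hom.comp_apply, Scheme.Opens.fromSpecStalkOfMem_ι, Scheme.fromSpecStalk_closedPoint]
  rfl

theorem fromSpecStalkOfMem_homOfLE {X : Scheme.{u}} {V W : X.Opens} (h : V ≤ W) (x : X) (hx : x ∈ V) :
    V.fromSpecStalkOfMem x hx ≫ X.homOfLE h = W.fromSpecStalkOfMem x (h hx) := by
  rw [← cancel_mono W.ι, Category.assoc, X.homOfLE_ι, Scheme.Opens.fromSpecStalkOfMem_ι,
    Scheme.Opens.fromSpecStalkOfMem_ι]

theorem stalkSpecializes_fromSpecStalkOfMem {X : Scheme.{u}} (W : X.Opens) {x y : X} (h : y ⤳ x) (hx : x ∈ W) :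
    Spec.map (X.presheaf.stalkSpecializes h) ≫ W.fromSpecStalkOfMem x hx =
      W.fromSpecStalkOfMem y (h.mem_open W.2 hx) := by
  rw [← cancel_mono W.ι, Category.assoc, Scheme.Opens.fromSpecStalkOfMem_ι, Scheme.Opens.fromSpecStalkOfMem_ι,
    Scheme.SpecMap_stalkSpecializes_fromSpecStalk]

theorem isDominant_fromSpecStalkOfMem {X : Scheme.{u}} [IrreducibleSpace X] (W : X.Opens) (h : genericPoint X ∈ W) :
    IsDominant (W.fromSpecStalkOfMem (genericPoint X) h) := ⟨fun z => by
  have h' : W.fromSpecStalkOfMem _ h (IsLocalRing.closedPoint (X.presheaf.stalk (genericPoint X))) ⤳ z := by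
    refine W.ι.isOpenEmbedding.isInducing.specializes_iff.mp ?_
    rw [fromSpecStalkOfMem_closedPoint]
    exact genericPoint_specializes _
  exact closure_mono (Set.singleton_subset_iff.mpr (Set.mem_range_self _)) h'.mem_closure⟩

theorem isDominant_stalkSpecializes {X : Scheme.{u}} [IsIntegral X] (x : X) :
    IsDominant (Spec.map (X.presheaf.stalkSpecializes (genericPoint_specializes x))) := ⟨by
  have h : Function.Injective (X.presheaf.stalkSpecializes (genericPoint_specializes x)).hom :=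
    IsFractionRing.injective (X.presheaf.stalk x) X.functionField
  exact PrimeSpectrum.denseRange_comap_iff_ker_le_nilRadical _ |>.2 (by
    rw [(RingHom.injective_iff_ker_eq_bot _).1 h]; exact bot_le)⟩

/-- Extension at a point through a regular closed subscheme whose small points lie in the domain. -/
theorem extend_at {S P T A : Scheme.{u}} [S.IsSeparated] [IsIntegral P] (sP : P ⟶ S) (sA : A ⟶ S)
    [IsSeparated sA] [LocallyOfFiniteType sA] (O : P.Opens) (g : (O : Scheme.{u}) ⟶ A) (hg : g ≫ sA = O.ι ≫ sP)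
    (δ : T ⟶ P) (x : T) (hsurj : Function.Surjective (δ.stalkMap x)) [IsDomain (T.presheaf.stalk x)]
    [UniqueFactorizationMonoid (T.presheaf.stalk x)] [UniqueFactorizationMonoid (P.presheaf.stalk (δ x))] (a : A)
    (hy : ∀ q : PrimeSpectrum (T.presheaf.stalk x),
      (q.asIdeal = ⊥ ∨ ∃ π, Prime π ∧ q.asIdeal = Ideal.span {π}) →
      ∃ h : δ (T.fromSpecStalk x q) ∈ O, g ⟨_, h⟩ ⤳ a) :
    ∃ (V : P.Opens) (v : (V : Scheme.{u}) ⟶ A), δ x ∈ V ∧ v ≫ sA = V.ι ≫ sP ∧
      P.homOfLE (inf_le_right : O ⊓ V ≤ V) ≫ v = P.homOfLE (inf_le_left : O ⊓ V ≤ O) ≫ g := by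
  let d : P := δ x
  obtain ⟨hy0, hy0a⟩ := hy ⟨⊥, Ideal.isPrime_bot⟩ (Or.inl rfl)
  have hξO : genericPoint P ∈ O := (genericPoint_specializes _).mem_open O.2 hy0
  let gen : Spec (P.presheaf.stalk (genericPoint P)) ⟶ A := O.fromSpecStalkOfMem _ hξO ≫ g
  have hgen : gen (IsLocalRing.closedPoint _) ⤳ a := by
    rw [Scheme.Hom.comp_apply, fromSpecStalkOfMem_closedPoint]
    exact ((O.ι.isOpenEmbedding.isInducing.specializes_iff.1 (genericPoint_specializes _)).map g.continuous).trans hy0a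
  obtain ⟨ψ, hψ⟩ := exists_specMap_fromSpecStalk gen hgen
  let ι₀ : P.presheaf.stalk d ⟶ P.presheaf.stalk (genericPoint P) :=
    P.presheaf.stalkSpecializes (genericPoint_specializes d)
  have hmem : ∀ t, ∃ r, ι₀ r = ψ t := by
    intro t
    refine mem_range_of_small_primes (R := P.presheaf.stalk d) (K := P.functionField)
      (δ.stalkMap x).hom hsurj (ψ t) fun q hq => ?_
    obtain ⟨hzO, hza⟩ := hy q hq
    let y : T := T.fromSpecStalk x q
    let Q : PrimeSpectrum (P.presheaf.stalk d) := PrimeSpectrum.comap (δ.stalkMap x).hom q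
    let z : P := δ y
    have hzQ : z = P.fromSpecStalk d Q := by
      have e := congrArg (fun m : Spec (T.presheaf.stalk x) ⟶ P => m q) (Scheme.SpecMap_stalkMap_fromSpecStalk δ (x := x))
      exact e.symm
    have hyx : y ⤳ x := specializes_fromSpecStalk x q
    have hzd : z ⤳ d := hyx.map δ.continuous
    have hz : (O.fromSpecStalkOfMem z hzO ≫ g) (IsLocalRing.closedPoint (P.presheaf.stalk z)) ⤳ a := by
      rw [Scheme.Hom.comp_apply, fromSpecStalkOfMem_closedPoint]
      exact hza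
    obtain ⟨χ, hχ⟩ := exists_specMap_fromSpecStalk (O.fromSpecStalkOfMem z hzO ≫ g) hz
    let ιz : P.presheaf.stalk z ⟶ P.presheaf.stalk (genericPoint P) :=
      P.presheaf.stalkSpecializes (genericPoint_specializes z)
    have hψχ : χ ≫ ιz = ψ := by
      refine Spec.map_injective ?_
      rw [← cancel_mono (A.fromSpecStalk a), Spec.map_comp, Category.assoc, hχ, hψ, ← Category.assoc,
        stalkSpecializes_fromSpecStalkOfMem]
    obtain ⟨c, s, hs, hcs⟩ := exists_frac_fromSpecStalk d Q hzQ hzd (χ t)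
    refine ⟨c, s, hs, ?_⟩
    rw [show (ψ t : P.functionField) = ιz (χ t) from congrArg (fun m : A.presheaf.stalk _ ⟶ _ => m t) hψχ.symm]
    exact hcs
  choose ψ₀ hψ₀ using hmem
  have hinj : Function.Injective ι₀ := IsFractionRing.injective (P.presheaf.stalk d) P.functionField
  let ψ₁ : A.presheaf.stalk a ⟶ P.presheaf.stalk d := CommRingCat.ofHom
    { toFun := ψ₀
      map_one' := hinj (by rw [hψ₀, map_one, map_one])
      map_mul' := fun a b => hinj (by rw [hψ₀, map_mul, map_mul, hψ₀, hψ₀])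
      map_zero' := hinj (by rw [hψ₀, map_zero, map_zero])
      map_add' := fun a b => hinj (by rw [hψ₀, map_add, map_add, hψ₀, hψ₀]) }
  have hψ₁ : ψ₁ ≫ ι₀ = ψ := CommRingCat.hom_ext (RingHom.ext hψ₀)
  let φ : Spec (P.presheaf.stalk d) ⟶ A := Spec.map ψ₁ ≫ A.fromSpecStalk a
  have hφg : Spec.map ι₀ ≫ φ = gen := by
    rw [← hψ, ← hψ₁, Spec.map_comp, Category.assoc]
  haveI := isDominant_stalkSpecializes d
  have hφ : φ ≫ sA = P.fromSpecStalk d ≫ sP := by
    refine ext_of_isDominant (Spec.map ι₀) ?_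
    rw [← Category.assoc, hφg, ← Category.assoc, Scheme.SpecMap_stalkSpecializes_fromSpecStalk, Category.assoc, hg,
      ← Category.assoc, Scheme.Opens.fromSpecStalkOfMem_ι]
  obtain ⟨V, hdV, v, hv, hv'⟩ := spread_out_of_isGermInjective' sP sA φ hφ
  refine ⟨V, v, hdV, hv', ?_⟩
  have hξV : genericPoint P ∈ V := (genericPoint_specializes d).mem_open V.2 hdV
  have hξ : genericPoint P ∈ O ⊓ V := ⟨hξO, hξV⟩
  haveI := isDominant_fromSpecStalkOfMem (O ⊓ V) hξ
  refine ext_of_isDominant_of_isSeparated sA ?_ ((O ⊓ V).fromSpecStalkOfMem _ hξ) ?_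
  · rw [Category.assoc, hv', Category.assoc, hg, ← Category.assoc, ← Category.assoc]
    exact congrArg (· ≫ sP) ((P.homOfLE_ι _).trans (P.homOfLE_ι _).symm)
  · rw [← Category.assoc, ← Category.assoc, fromSpecStalkOfMem_homOfLE, fromSpecStalkOfMem_homOfLE,
      ← stalkSpecializes_fromSpecStalkOfMem V (genericPoint_specializes d) hdV, Category.assoc]
    exact (congrArg (Spec.map ι₀ ≫ ·) hv).symm.trans hφg

variable {S : Scheme.{u}} [S.IsSeparated] {T A : Over S} [GrpObj A] [IsSeparated A.hom] [LocallyOfFiniteType A.hom]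
  [IsIntegral T.left] [IsLocallyNoetherian T.left] [Smooth T.hom] [IsSeparated T.hom]
  [IsLocallyNoetherian (T ⊗ T).left]

/-- The value of the unit at the image of a point. -/
def eA (A : Over S) [GrpObj A] (x : T.left) : A.left := (η[A]).left (T.hom x)

omit [S.IsSeparated] [IsSeparated A.hom] [LocallyOfFiniteType A.hom] [IsIntegral T.left] [IsLocallyNoetherian T.left] [Smooth T.hom] [IsSeparated T.hom] [IsLocallyNoetherian (T ⊗ T).left] in
theorem diff_apply_diag {U : T.left.Opens} (g : opn T U ⟶ A) {x : T.left} (hx : x ∈ U) :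
    (diff g).left ⟨(δ T).left x, δ_mem_sq hx⟩ = eA A x := by
  have h : (AVExtLib.diag U).left ≫ (diff g).left = (toUnit (opn T U)).left ≫ (η[A]).left :=
    congrArg CommaMorphism.left (diag_diff g)
  have e : (AVExtLib.diag U).left ⟨x, hx⟩ = ⟨(δ T).left x, δ_mem_sq hx⟩ := by
    refine (sq U).ι.isOpenEmbedding.injective ?_
    refine (Scheme.Hom.comp_apply (AVExtLib.diag U).left (sq U).ι _).symm.trans ?_
    exact congrArg (fun m : (U : Scheme.{u}) ⟶ (T ⊗ T).left => m ⟨x, hx⟩) (Scheme.Hom.resLE_comp_ι (δ T).left (U := sq U) (V := U)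
      (fun _ hx => δ_mem_sq hx))
  rw [← e, ← Scheme.Hom.comp_apply, h, Scheme.Hom.comp_apply]
  refine congrArg _ ?_
  show (opn T U).hom ⟨x, hx⟩ = T.hom x
  rfl

variable (hreg : ∀ x, IsRegularLocalRing (T.left.presheaf.stalk x))
  (hreg2 : ∀ p, IsRegularLocalRing ((T ⊗ T).left.presheaf.stalk p))
  {U : T.left.Opens} (hU : (U : Set T.left).Nonempty) (g : opn T U ⟶ A)
  (hU1 : ∀ y, ringKrullDim (T.left.presheaf.stalk y) ≤ 1 → y ∈ U)
  (hfib : ∀ (O : T.left.Opens) (t : T.left), t ∈ O → ∃ t' ∈ O ⊓ U, T.hom t' = T.hom t)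

include hreg hreg2 hU1 in
theorem defined_diag (x : T.left) : Defined (diff g) ((δ T).left x) := by
  classical
  let P := (T ⊗ T).left
  haveI := hreg x
  haveI := hreg2 ((δ T).left x)
  haveI : IsDomain (P.presheaf.stalk ((δ T).left x)) := RegLocal.isDomain _
  obtain ⟨V, hdV, hV⟩ := AffLim.exists_isIntegral_nhd (X := P) ((δ T).left x)
  have hfst : (δ T).left ≫ (fst T T).left = 𝟙 T.left := congrArg CommaMorphism.left (lift_fst (𝟙 T) (𝟙 T))
  haveI : IsClosedImmersion (δ T).left := by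
    haveI : IsSeparated (fst T T).left := MorphismProperty.pullback_fst (P := @IsSeparated) _ _ inferInstance
    haveI : IsClosedImmersion ((δ T).left ≫ (fst T T).left) := by rw [hfst]; infer_instance
    exact IsClosedImmersion.of_comp (δ T).left (fst T T).left
  let W : T.left.Opens := (δ T).left ⁻¹ᵁ V
  let δV : (W : Scheme.{u}) ⟶ (V : Scheme.{u}) := (δ T).left ∣_ V
  haveI : IsClosedImmersion δV := IsZariskiLocalAtTarget.restrict (P := @IsClosedImmersion) ‹_› V
  let xW : (W : Scheme.{u}) := ⟨x, hdV⟩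
  have hδι : ∀ y : (W : Scheme.{u}), (δV y).1 = (δ T).left y.1 := fun y =>
    congrArg (fun m : (W : Scheme.{u}) ⟶ P => m y) (morphismRestrict_ι (δ T).left V)
  haveI : IsRegularLocalRing ((W : Scheme.{u}).presheaf.stalk xW) :=
    haveI := hreg x
    IsRegularLocalRing.of_ringEquiv (W.stalkIso xW).symm.commRingCatIsoToRingEquiv
  haveI : IsRegularLocalRing ((V : Scheme.{u}).presheaf.stalk (δV xW)) := by
    haveI := hreg2 (δV xW).1
    exact IsRegularLocalRing.of_ringEquiv (V.stalkIso (δV xW)).symm.commRingCatIsoToRingEquiv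
  haveI : IsDomain ((W : Scheme.{u}).presheaf.stalk xW) := RegLocal.isDomain _
  haveI : UniqueFactorizationMonoid ((W : Scheme.{u}).presheaf.stalk xW) := RegLocal.ufd _
  haveI : UniqueFactorizationMonoid ((V : Scheme.{u}).presheaf.stalk (δV xW)) := RegLocal.ufd _
  let O : (V : Scheme.{u}).Opens := V.ι ⁻¹ᵁ sq U
  let gO : (O : Scheme.{u}) ⟶ A.left := (V.ι.resLE (sq U) O le_rfl) ≫ (diff g).left
  have hgO : gO ≫ A.hom = O.ι ≫ V.ι ≫ (T ⊗ T).hom := by
    rw [Category.assoc, Over.w (diff g)]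
    show _ ≫ (sq U).ι ≫ _ = _
    rw [← Category.assoc, Scheme.Hom.resLE_comp_ι, Category.assoc]
  obtain ⟨V₀, v, hdV₀, hv, hv'⟩ := extend_at (V.ι ≫ (T ⊗ T).hom) A.hom O gO hgO δV xW (δV.stalkMap_surjective xW)
    (eA A x) (fun q hq => by
      let yW : (W : Scheme.{u}) := (W : Scheme.{u}).fromSpecStalk xW q
      have hyx : yW ⤳ xW := specializes_fromSpecStalk xW q
      have hyU : yW.1 ∈ U := by
        refine hU1 _ ?_
        rw [← ringKrullDim_eq_of_ringEquiv (W.stalkIso yW).commRingCatIsoToRingEquiv]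
        letI := ((W : Scheme.{u}).presheaf.stalkSpecializes hyx).hom.toAlgebra
        haveI hloc : IsLocalization.AtPrime ((W : Scheme.{u}).presheaf.stalk yW) q.asIdeal :=
          isLocalization_fromSpecStalk xW q rfl hyx
        rw [IsLocalization.AtPrime.ringKrullDim_eq_height q.asIdeal]
        rcases hq with h0 | ⟨π, hπ, hπq⟩
        · simp [h0]
        · haveI : q.asIdeal.IsPrincipal := ⟨⟨π, hπq⟩⟩
          exact_mod_cast Ideal.height_le_one_of_isPrincipal_of_mem_minimalPrimes q.asIdeal q.asIdeal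
            (by rw [Ideal.minimalPrimes_eq_subsingleton_self]; rfl)
      have hmem : δV yW ∈ O := by
        show (δV yW).1 ∈ sq U
        rw [hδι]
        exact δ_mem_sq hyU
      refine ⟨hmem, ?_⟩
      have e : (V.ι.resLE (sq U) O le_rfl) ⟨δV yW, hmem⟩ = ⟨(δ T).left yW.1, δ_mem_sq hyU⟩ := by
        refine Subtype.ext ?_
        exact (congrArg (fun m : (O : Scheme.{u}) ⟶ P => m ⟨δV yW, hmem⟩) (Scheme.Hom.resLE_comp_ι V.ι le_rfl)).trans (hδι yW)
      rw [show gO ⟨δV yW, hmem⟩ = (diff g).left ((V.ι.resLE (sq U) O le_rfl) ⟨δV yW, hmem⟩) from rfl, e,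
        diff_apply_diag g hyU]
      exact ((hyx.map W.ι.continuous).map T.hom.continuous).map (η[A]).left.continuous)
  let N : P.Opens := V.ι ''ᵁ V₀
  refine ⟨N, Over.homMk ((V.ι.isoImage V₀).inv ≫ v) ?_, ⟨δV xW, hdV₀, hδι xW⟩, Over.OverMorphism.ext ?_⟩
  · show ((V.ι.isoImage V₀).inv ≫ v) ≫ A.hom = N.ι ≫ (T ⊗ T).hom
    rw [Category.assoc, hv, ← Category.assoc V₀.ι, ← Category.assoc, Scheme.Hom.isoImage_inv_ι]
  · have hk : Set.range (sq U ⊓ N).ι ⊆ Set.range V.ι := by
      rw [Scheme.Opens.range_ι, Scheme.Opens.range_ι]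
      rintro _ ⟨-, w, -, rfl⟩
      exact w.2
    let k := IsOpenImmersion.lift V.ι (sq U ⊓ N).ι hk
    have hkι : k ≫ V.ι = (sq U ⊓ N).ι := IsOpenImmersion.lift_fac _ _ _
    have hkr : Set.range k ⊆ Set.range (O ⊓ V₀).ι := by
      rintro _ ⟨w, rfl⟩
      rw [Scheme.Opens.range_ι]
      have e : (k w).1 = w.1 := congrArg (fun m : ((sq U ⊓ N : P.Opens) : Scheme.{u}) ⟶ P => m w) hkι
      obtain ⟨w₀, hw₀, hw⟩ := w.2.2
      refine ⟨show (k w).1 ∈ sq U from e ▸ w.2.1, ?_⟩
      have : w₀ = k w := V.ι.isOpenEmbedding.injective (hw.trans e.symm)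
      exact this ▸ hw₀
    let l := IsOpenImmersion.lift (O ⊓ V₀).ι k hkr
    have hl : l ≫ (O ⊓ V₀).ι = k := IsOpenImmersion.lift_fac _ _ _
    have h1 : P.homOfLE (inf_le_right : sq U ⊓ N ≤ N) ≫ (V.ι.isoImage V₀).inv =
        l ≫ (V : Scheme.{u}).homOfLE (inf_le_right : O ⊓ V₀ ≤ V₀) := by
      rw [← cancel_mono V₀.ι, ← cancel_mono V.ι]
      simp only [Category.assoc, Scheme.homOfLE_ι_assoc, Scheme.Hom.isoImage_inv_ι, Scheme.homOfLE_ι]
      rw [reassoc_of% hl, hkι]
      exact P.homOfLE_ι _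
    have h2 : P.homOfLE (inf_le_left : sq U ⊓ N ≤ sq U) =
        l ≫ (V : Scheme.{u}).homOfLE (inf_le_left : O ⊓ V₀ ≤ O) ≫ V.ι.resLE (sq U) O le_rfl := by
      rw [← cancel_mono (sq U).ι]
      simp only [Category.assoc, Scheme.homOfLE_ι, Scheme.Hom.resLE_comp_ι, Scheme.homOfLE_ι_assoc]
      rw [reassoc_of% hl, hkι]
      exact P.homOfLE_ι _
    show P.homOfLE (inf_le_right : sq U ⊓ N ≤ N) ≫ (V.ι.isoImage V₀).inv ≫ v =
      P.homOfLE (inf_le_left : sq U ⊓ N ≤ sq U) ≫ (diff g).left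
    rw [reassoc_of% h1, hv', h2, Category.assoc, Category.assoc]

include hreg hreg2 hU hU1 hfib in
/-- The map extends near every point. -/
theorem defined_of_defined_diag (x : T.left) : Defined g x := by
  classical
  let P := (T ⊗ T).left
  obtain ⟨N, H, hxN, hH⟩ := defined_diag hreg hreg2 g hU1 x
  let M : P.Opens := N ⊓ (snd T T).left ⁻¹ᵁ U
  let m₂ : opn (T ⊗ T) M ⟶ opn T U := Over.homMk ((snd T T).left.resLE U M inf_le_right) (by
    show _ ≫ U.ι ≫ T.hom = _
    rw [← Category.assoc, Scheme.Hom.resLE_comp_ι, Category.assoc]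
    exact congrArg (M.ι ≫ ·) (Over.w (snd T T)))
  let φ : opn (T ⊗ T) M ⟶ A := (opnLE (inf_le_left : M ≤ N) ≫ H) * (m₂ ≫ g)
  haveI : Smooth (fst T T).left := MorphismProperty.pullback_fst (P := @Smooth) _ _ inferInstance
  let π : (M : Scheme.{u}) ⟶ T.left := M.ι ≫ (fst T T).left
  haveI : Smooth π := inferInstance
  let W : T.left.Opens := ⟨Set.range π, π.isOpenMap.isOpen_range⟩
  have hMW : M ≤ (fst T T).left ⁻¹ᵁ W := fun z hz => ⟨⟨z, hz⟩, rfl⟩
  let q : (M : Scheme.{u}) ⟶ (W : Scheme.{u}) := (fst T T).left.resLE W M hMW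
  have hqι : q ≫ W.ι = π := Scheme.Hom.resLE_comp_ι _ _
  haveI : Smooth q := IsZariskiLocalAtSource.resLE (P := @Smooth) _ inferInstance
  haveI : Flat q := inferInstance
  haveI : Surjective q := ⟨fun w => by
    obtain ⟨z, hz⟩ := w.2
    refine ⟨z, W.ι.isOpenEmbedding.injective ?_⟩
    rw [← Scheme.Hom.comp_apply, hqι]
    exact hz⟩
  have hxW : x ∈ W := by
    let s := T.hom x
    let r := T.left.fromSpecResidueField x
    let κ := S.fromSpecResidueField s
    let ν := Spec.map (T.hom.residueFieldMap x)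
    have hν : ν ≫ κ = r ≫ T.hom := Scheme.Hom.SpecMap_residueFieldMap_fromSpecResidueField T.hom x
    let F := pullback T.hom (r ≫ T.hom)
    let c : F ⟶ P := pullback.lift (pullback.snd T.hom (r ≫ T.hom) ≫ r) (pullback.fst T.hom (r ≫ T.hom)) (by
      rw [Category.assoc, pullback.condition])
    have hcfst : c ≫ (fst T T).left = pullback.snd T.hom (r ≫ T.hom) ≫ r := pullback.lift_fst _ _ _
    have hcsnd : c ≫ (snd T T).left = pullback.fst T.hom (r ≫ T.hom) := pullback.lift_snd _ _ _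
    let m : F ⟶ pullback T.hom κ := pullback.lift (pullback.fst T.hom (r ≫ T.hom)) (pullback.snd T.hom (r ≫ T.hom) ≫ ν)
      (by rw [Category.assoc, hν]; exact pullback.condition)
    have hm : IsPullback m (pullback.snd T.hom (r ≫ T.hom)) (pullback.snd T.hom κ) ν := by
      refine IsPullback.of_right ?_ (pullback.lift_snd _ _ _) (IsPullback.of_hasPullback T.hom κ)
      rw [pullback.lift_fst, hν]
      exact IsPullback.of_hasPullback T.hom (r ≫ T.hom)
    haveI : UniversallyOpen ν := Groth.Agent.S5335.universallyOpen_to_artinian _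
    haveI : UniversallyOpen m := MorphismProperty.of_isPullback (P := @UniversallyOpen) hm.flip inferInstance
    let o : Spec (T.left.residueField x) ⟶ F := pullback.lift r (𝟙 _) (Category.id_comp _).symm
    have hd1 : (δ T).left ≫ pullback.fst T.hom T.hom = 𝟙 _ := congrArg CommaMorphism.left (lift_fst (𝟙 T) (𝟙 T))
    have hd2 : (δ T).left ≫ pullback.snd T.hom T.hom = 𝟙 _ := congrArg CommaMorphism.left (lift_snd (𝟙 T) (𝟙 T))
    have ho : o ≫ c = r ≫ (δ T).left := by
      apply pullback.hom_ext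
      · rw [Category.assoc, pullback.lift_fst, ← Category.assoc, pullback.lift_snd, Category.id_comp]
        exact ((Category.assoc _ _ _).trans ((congrArg (r ≫ ·) hd1).trans (Category.comp_id _))).symm
      · rw [Category.assoc, pullback.lift_snd, pullback.lift_fst]
        exact ((Category.assoc _ _ _).trans ((congrArg (r ≫ ·) hd2).trans (Category.comp_id _))).symm
    let pt : Spec (T.left.residueField x) := IsLocalRing.closedPoint (T.left.residueField x)
    have hopen : IsOpen (m '' (c ⁻¹' (N : Set P))) := m.isOpenMap _ (N.2.preimage c.continuous)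
    haveI : IsPreimmersion (pullback.fst T.hom κ) := MorphismProperty.pullback_fst _ _ inferInstance
    obtain ⟨Ω, hΩ, hΩ'⟩ := (pullback.fst T.hom κ).isEmbedding.isInducing.isOpen_iff.1 hopen
    have hmem : m (o pt) ∈ m '' (c ⁻¹' (N : Set P)) := by
      refine ⟨o pt, ?_, rfl⟩
      show c (o pt) ∈ N
      rw [← Scheme.Hom.comp_apply, ho, Scheme.Hom.comp_apply, T.left.fromSpecResidueField_apply]
      exact hxN
    rw [← hΩ'] at hmem
    obtain ⟨t', ⟨ht'Ω, ht'U⟩, ht's⟩ := hfib ⟨Ω, hΩ⟩ _ hmem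
    have ht'r : t' ∈ Set.range (pullback.fst T.hom κ) := by
      rw [Scheme.Pullback.range_fst, Set.mem_preimage, Scheme.range_fromSpecResidueField, Set.mem_singleton_iff, ht's]
      show T.hom (pullback.fst T.hom κ (m (o pt))) = s
      rw [← Scheme.Hom.comp_apply, pullback.condition, Scheme.Hom.comp_apply, S.fromSpecResidueField_apply]
    obtain ⟨w', rfl⟩ := ht'r
    have hw' : w' ∈ m '' (c ⁻¹' (N : Set P)) := hΩ' ▸ ht'Ω
    obtain ⟨w, hwN, rfl⟩ := hw'
    refine ⟨⟨c w, hwN, ?_⟩, ?_⟩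
    · show (snd T T).left (c w) ∈ U
      rw [← Scheme.Hom.comp_apply, hcsnd]
      rw [← Scheme.Hom.comp_apply, pullback.lift_fst] at ht'U
      exact ht'U
    · show (fst T T).left (c w) = x
      rw [← Scheme.Hom.comp_apply, hcfst, Scheme.Hom.comp_apply, T.left.fromSpecResidueField_apply]
  let O : P.Opens := M ⊓ (fst T T).left ⁻¹ᵁ U
  let j : opn (T ⊗ T) O ⟶ opn T U := Over.homMk ((fst T T).left.resLE U O inf_le_right) (by
    show _ ≫ U.ι ≫ T.hom = _
    rw [← Category.assoc, Scheme.Hom.resLE_comp_ι, Category.assoc]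
    exact congrArg (O.ι ≫ ·) (Over.w (fst T T)))
  have hO : opnLE (inf_le_left : O ≤ M) ≫ φ = j ≫ g := by
    have hON : O ≤ sq U ⊓ N := fun z hz => ⟨⟨hz.2, hz.1.2⟩, hz.1.1⟩
    have e1 : opnLE (inf_le_left : O ≤ M) ≫ opnLE (inf_le_left : M ≤ N) =
        opnLE hON ≫ opnLE (inf_le_right : sq U ⊓ N ≤ N) := by rw [opnLE_comp, opnLE_comp]
    have e2 : opnLE (hON.trans inf_le_left : O ≤ sq U) ≫ pr₁ U = j := by
      rw [← cancel_mono (opnι U), Category.assoc, pr₁_ι, ← Category.assoc, opnLE_ι]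
      exact (Over.OverMorphism.ext (Scheme.Hom.resLE_comp_ι _ _)).symm
    have e3 : opnLE (hON.trans inf_le_left : O ≤ sq U) ≫ pr₂ U = opnLE (inf_le_left : O ≤ M) ≫ m₂ := by
      have hm : m₂ ≫ opnι U = opnι M ≫ snd T T := Over.OverMorphism.ext (Scheme.Hom.resLE_comp_ι _ _)
      rw [← cancel_mono (opnι U), Category.assoc, pr₂_ι, Category.assoc, hm, ← Category.assoc, ← Category.assoc,
        opnLE_ι, opnLE_ι]
    rw [MonObj.comp_mul, ← Category.assoc, e1, Category.assoc, hH, ← Category.assoc, opnLE_comp, diff,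
      MonObj.comp_mul, GrpObj.comp_inv, ← Category.assoc, ← Category.assoc, e2, e3, Category.assoc,
      inv_mul_cancel_right]
  let R := pullback q q
  haveI : Smooth (pullback.fst q q) := MorphismProperty.pullback_fst _ _ inferInstance
  haveI : Smooth (pullback.fst q q ≫ π ≫ T.hom) := inferInstance
  haveI : IsReduced R := ASp.isReduced_of_smooth (pullback.fst q q ≫ π)
  let ρ : R ⟶ T.left := pullback.fst q q ≫ π
  haveI : Smooth ρ := inferInstance
  let O' : R.Opens := ρ ⁻¹ᵁ U
  haveI : IsDominant O'.ι := ⟨by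
    rw [DenseRange, Scheme.Opens.range_ι, dense_iff_inter_open]
    intro Z hZ hZne
    obtain ⟨t, ⟨w, hwZ, rfl⟩, htU⟩ := nonempty_preirreducible_inter (ρ.isOpenMap Z hZ) U.2 (hZne.image ρ) hU
    exact ⟨w, hwZ, htU⟩⟩
  have hsep : pullback.fst q q ≫ φ.left = pullback.snd q q ≫ φ.left := by
    have hπ : pullback.snd q q ≫ π = pullback.fst q q ≫ π := by rw [← hqι, pullback.condition_assoc]
    refine ext_of_isDominant_of_isSeparated A.hom ?_ O'.ι ?_
    · rw [Category.assoc, Category.assoc, Over.w φ]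
      show pullback.fst q q ≫ M.ι ≫ (T ⊗ T).hom = pullback.snd q q ≫ M.ι ≫ (T ⊗ T).hom
      rw [← Over.w (fst T T)]
      have e := congrArg (· ≫ T.hom) hπ.symm
      simp only [π, Category.assoc] at e
      exact e
    · have key : ∀ (l : R ⟶ (M : Scheme.{u})), l ≫ π = ρ →
          ∃ l' : (O' : Scheme.{u}) ⟶ (O : Scheme.{u}), l' ≫ P.homOfLE (inf_le_left : O ≤ M) = O'.ι ≫ l := by
        intro l hl
        refine ⟨IsOpenImmersion.lift O.ι (O'.ι ≫ l ≫ M.ι) ?_, ?_⟩
        · rintro _ ⟨z, rfl⟩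
          rw [Scheme.Opens.range_ι]
          refine ⟨?_, ?_⟩
          · rw [Scheme.Hom.comp_apply, Scheme.Hom.comp_apply]
            exact (l (O'.ι z)).2
          · show (fst T T).left ((O'.ι ≫ l ≫ M.ι) z) ∈ U
            rw [← Scheme.Hom.comp_apply, Category.assoc, Category.assoc]
            show (O'.ι ≫ l ≫ π) z ∈ U
            rw [hl, Scheme.Hom.comp_apply]
            exact z.2
        · rw [← cancel_mono M.ι, Category.assoc, P.homOfLE_ι, IsOpenImmersion.lift_fac, Category.assoc]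
      obtain ⟨l₁, hl₁⟩ := key (pullback.fst q q) rfl
      obtain ⟨l₂, hl₂⟩ := key (pullback.snd q q) hπ
      have hO' : P.homOfLE (inf_le_left : O ≤ M) ≫ φ.left = j.left ≫ g.left := congrArg CommaMorphism.left hO
      rw [← Category.assoc, ← Category.assoc, ← hl₁, ← hl₂, Category.assoc, Category.assoc, hO', ← Category.assoc,
        ← Category.assoc]
      congr 1
      have hj : ∀ l' : (O' : Scheme.{u}) ⟶ (O : Scheme.{u}), (l' ≫ j.left) ≫ U.ι =
          (l' ≫ P.homOfLE (inf_le_left : O ≤ M)) ≫ π := fun l' => by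
        show (l' ≫ (fst T T).left.resLE U O _) ≫ U.ι = _
        rw [Category.assoc, Scheme.Hom.resLE_comp_ι, Category.assoc]
        show _ = l' ≫ P.homOfLE _ ≫ M.ι ≫ _
        rw [← Category.assoc (P.homOfLE _), P.homOfLE_ι]
      rw [← cancel_mono U.ι, hj, hj, hl₁, hl₂, Category.assoc, Category.assoc, hπ]
  obtain ⟨h, hqh⟩ : ∃ h : (W : Scheme.{u}) ⟶ A.left, q ≫ h = φ.left :=
    ⟨EffectiveEpi.desc q φ.left fun g₁ g₂ e => by
      have h1 := congrArg (pullback.lift g₁ g₂ e ≫ ·) hsep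
      simp only [← Category.assoc, pullback.lift_fst, pullback.lift_snd] at h1
      exact h1,
      EffectiveEpi.fac _ _ _⟩
  have hw : h ≫ A.hom = W.ι ≫ T.hom := by
    rw [← cancel_epi q, ← Category.assoc, hqh, Over.w φ, ← Category.assoc, hqι, Category.assoc, Over.w (fst T T)]
    rfl
  refine ⟨W, Over.homMk h hw, hxW, ?_⟩
  apply Over.OverMorphism.ext
  show T.left.homOfLE (inf_le_right : U ⊓ W ≤ W) ≫ h = T.left.homOfLE (inf_le_left : U ⊓ W ≤ U) ≫ g.left
  have hO'' : O ≤ (fst T T).left ⁻¹ᵁ (U ⊓ W) := fun z hz => ⟨hz.2, hMW hz.1⟩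
  let e := (fst T T).left.resLE (U ⊓ W) O hO''
  haveI : IsDominant e := ⟨by
    rw [DenseRange, dense_iff_inter_open]
    intro Z hZ hZne
    obtain ⟨z, hz⟩ := hZne
    obtain ⟨w, hw'⟩ := z.2.2
    let Z' : Set T.left := (U ⊓ W : T.left.Opens).ι '' Z
    refine ⟨⟨z.1, z.2⟩, hz, ⟨⟨w.1, w.2, ?_⟩, ?_⟩⟩
    · show (fst T T).left w.1 ∈ U
      exact hw' ▸ z.2.1
    · refine (U ⊓ W : T.left.Opens).ι.isOpenEmbedding.injective ?_
      rw [← Scheme.Hom.comp_apply, Scheme.Hom.resLE_comp_ι]
      exact hw'⟩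
  refine ext_of_isDominant_of_isSeparated A.hom ?_ e ?_
  · rw [Category.assoc, Category.assoc, hw, Over.w g]
    show _ = T.left.homOfLE _ ≫ U.ι ≫ T.hom
    rw [← Category.assoc, ← Category.assoc, T.left.homOfLE_ι, T.left.homOfLE_ι]
  · have e1 : e ≫ T.left.homOfLE (inf_le_right : U ⊓ W ≤ W) = P.homOfLE (inf_le_left : O ≤ M) ≫ q := by
      rw [← cancel_mono W.ι, Category.assoc, T.left.homOfLE_ι, Scheme.Hom.resLE_comp_ι, Category.assoc, hqι,
        ← Category.assoc, P.homOfLE_ι]
    have e2 : e ≫ T.left.homOfLE (inf_le_left : U ⊓ W ≤ U) = j.left := by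
      rw [← cancel_mono U.ι, Category.assoc, T.left.homOfLE_ι, Scheme.Hom.resLE_comp_ι]
      exact (Scheme.Hom.resLE_comp_ι _ _).symm
    rw [← Category.assoc, ← Category.assoc, e1, e2, Category.assoc, hqh]
    exact congrArg CommaMorphism.left hO

include hreg hreg2 hU hU1 hfib in
/-- A rational map defined in codimension one and densely on each fibre extends. -/
theorem exists_extension : ∃ g' : T ⟶ A, opnι U ≫ g' = g :=
  exists_of_forall_defined hU g (defined_of_defined_diag hreg hreg2 hU g hU1 hfib)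

end Groth.Agent.GrpExtLib
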