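import Mathlib

/-!
# Powers near the unit of a group scheme over a local ring

The power maps on the local ring of a group scheme at the unit point, their linear part, and the absence of
small torsion in small ramification.
-/

set_option autoImplicit false
set_option backward.isDefEq.respectTransparency false
set_option linter.style.haveILetI false
set_option linter.unusedSectionVars false

universe u

open CategoryTheory CategoryTheory.Limits AlgebraicGeometry MonoidalCategory CartesianMonoidalCategory MonObj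
open IsLocalRing

noncomputable section

namespace Groth.Agent.GrpExtLib.Formal

variable {R : Type u} [CommRing R]

/-- The spectrum of an algebra, over the base. -/
abbrev T (C : Type u) [CommRing C] [Algebra R C] : Over (Spec (CommRingCat.of R)) :=
  Over.mk (Spec.map (CommRingCat.ofHom (algebraMap R C)))

/-- The map of spectra of an algebra map. -/
def sm {C D : Type u} [CommRing C] [Algebra R C] [CommRing D] [Algebra R D] (f : C →ₐ[R] D) :
    T (R := R) D ⟶ T (R := R) C :=
  Over.homMk (Spec.map (CommRingCat.ofHom f.toRingHom)) (by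
    show Spec.map _ ≫ Spec.map _ = Spec.map _
    rw [← Spec.map_comp]
    congr 1
    ext r
    exact f.commutes r)

theorem sm_comp {C D E : Type u} [CommRing C] [Algebra R C] [CommRing D] [Algebra R D] [CommRing E] [Algebra R E]
    (f : C →ₐ[R] D) (g : D →ₐ[R] E) : sm (g.comp f) = sm g ≫ sm f := by
  ext : 1
  show Spec.map _ = Spec.map _ ≫ Spec.map _
  rw [← Spec.map_comp, ← CommRingCat.ofHom_comp]
  rfl

theorem sm_id {C : Type u} [CommRing C] [Algebra R C] : sm (AlgHom.id R C) = 𝟙 (T (R := R) C) := by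
  ext : 1
  exact Spec.map_id _

variable [IsLocalRing R] (N : Over (Spec (CommRingCat.of R))) [GrpObj N]

/-- The unit point of the closed fibre. -/
abbrev e0 : N.left := (η[N]).left (closedPoint R)

/-- The local ring at the unit point. -/
abbrev A : Type u := N.left.presheaf.stalk (e0 N)

instance algebraA : Algebra R (A N) :=
  (Spec.preimage (N.left.fromSpecStalk (e0 N) ≫ N.hom)).hom.toAlgebra

/-- The tautological point. -/
def u0 : T (R := R) (A N) ⟶ N :=
  Over.homMk (N.left.fromSpecStalk (e0 N)) (Spec.map_preimage _).symm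

/-- The point of an algebra map. -/
def pt {C : Type u} [CommRing C] [Algebra R C] (h : A N →ₐ[R] C) : T (R := R) C ⟶ N := sm h ≫ u0 N

theorem pt_comp {C D : Type u} [CommRing C] [Algebra R C] [CommRing D] [Algebra R D] (h : A N →ₐ[R] C)
    (f : C →ₐ[R] D) : pt N (f.comp h) = sm f ≫ pt N h := by
  rw [pt, sm_comp, Category.assoc]
  rfl

theorem pt_injective {C : Type u} [CommRing C] [Algebra R C] {h k : A N →ₐ[R] C} (e : pt N h = pt N k) : h = k := by
  have e' : Spec.map (CommRingCat.ofHom h.toRingHom) ≫ N.left.fromSpecStalk (e0 N) =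
      Spec.map (CommRingCat.ofHom k.toRingHom) ≫ N.left.fromSpecStalk (e0 N) := congrArg CommaMorphism.left e
  rw [cancel_mono] at e'
  exact AlgHom.coe_ringHom_injective (congrArg CommRingCat.Hom.hom (Spec.map_injective e'))

theorem exists_pt {C : Type u} [CommRing C] [Algebra R C] [IsLocalRing C] (P : T (R := R) C ⟶ N)
    (hP : P.left (closedPoint C) = e0 N) : ∃ h : A N →ₐ[R] C, pt N h = P := by
  let φ := N.left.presheaf.stalkSpecializes (specializes_of_eq hP) ≫ Scheme.stalkClosedPointTo (R := CommRingCat.of C) P.left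
  have hφ : Spec.map φ ≫ N.left.fromSpecStalk (e0 N) = P.left := by
    rw [Spec.map_comp, Category.assoc, Scheme.SpecMap_stalkSpecializes_fromSpecStalk]
    exact Scheme.Spec_stalkClosedPointTo_fromSpecStalk P.left
  have hc : φ.hom.comp (algebraMap R (A N)) = algebraMap R C := by
    have h1 : Spec.map (CommRingCat.ofHom (φ.hom.comp (algebraMap R (A N)))) =
        Spec.map (CommRingCat.ofHom (algebraMap R C)) := by
      rw [CommRingCat.ofHom_comp, Spec.map_comp]
      show Spec.map φ ≫ Spec.map (Spec.preimage (N.left.fromSpecStalk (e0 N) ≫ N.hom)) = _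
      rw [Spec.map_preimage, ← Category.assoc, hφ]
      exact Over.w P
    exact congrArg CommRingCat.Hom.hom (Spec.map_injective h1)
  refine ⟨{ φ.hom with commutes' := fun r => RingHom.congr_fun hc r }, ?_⟩
  ext : 1
  exact hφ

theorem pt_closedPoint {C : Type u} [CommRing C] [Algebra R C] [IsLocalRing C] (h : A N →ₐ[R] C) :
    (pt N h).left (closedPoint C) = e0 N ↔ (maximalIdeal C).comap h = maximalIdeal (A N) := by
  have e : (pt N h).left (closedPoint C) = N.left.fromSpecStalk (e0 N) (PrimeSpectrum.comap h.toRingHom (closedPoint C)) := rfl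
  rw [e]
  constructor
  · intro h1
    have h2 := (N.left.fromSpecStalk (e0 N)).isEmbedding.injective (h1.trans Scheme.fromSpecStalk_closedPoint.symm)
    exact congrArg PrimeSpectrum.asIdeal h2
  · intro h1
    rw [show PrimeSpectrum.comap h.toRingHom (closedPoint C) = closedPoint (A N) from PrimeSpectrum.ext h1]
    exact Scheme.fromSpecStalk_closedPoint

theorem one_closedPoint {C : Type u} [CommRing C] [Algebra R C] [IsLocalRing C] [IsLocalHom (algebraMap R C)] :
    (1 : T (R := R) C ⟶ N).left (closedPoint C) = e0 N := by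
  rw [Hom.one_def, Over.comp_left, Scheme.Hom.comp_apply]
  exact congrArg (η[N]).left (IsLocalRing.comap_closedPoint (algebraMap R C))

theorem exists_counit : ∃ ε : A N →ₐ[R] R, pt N ε = 1 := by
  haveI : IsLocalHom (algebraMap R R) := ⟨fun a ha => ha⟩
  exact exists_pt N 1 (one_closedPoint N)

/-- The counit. -/
def ε : A N →ₐ[R] R := (exists_counit N).choose

theorem pt_ε : pt N (ε N) = 1 := (exists_counit N).choose_spec

theorem comap_ε : (maximalIdeal R).comap (ε N) = maximalIdeal (A N) := by
  haveI : IsLocalHom (algebraMap R R) := ⟨fun a ha => ha⟩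
  rw [← pt_closedPoint, pt_ε]
  exact one_closedPoint N

theorem pt_const {C : Type u} [CommRing C] [Algebra R C] : pt N ((Algebra.ofId R C).comp (ε N)) = 1 := by
  rw [pt_comp, pt_ε, MonObj.comp_one]

theorem exists_pow (n : ℕ) : ∃ g : A N →ₐ[R] A N, pt N g = u0 N ^ n := by
  refine exists_pt N _ ?_
  have h1 : sm (ε N) ≫ u0 N ^ n = 1 := by
    rw [MonObj.comp_pow]
    show pt N (ε N) ^ n = 1
    rw [pt_ε, one_pow]
  have h2 : (sm (ε N)).left (closedPoint R) = closedPoint (A N) := PrimeSpectrum.ext (comap_ε N)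
  rw [← h2, ← Scheme.Hom.comp_apply, ← Over.comp_left, h1]
  haveI : IsLocalHom (algebraMap R R) := ⟨fun a ha => ha⟩
  exact one_closedPoint N

/-- The power maps of the local ring. -/
def g (n : ℕ) : A N →ₐ[R] A N := (exists_pow N n).choose

theorem pt_g (n : ℕ) : pt N (g N n) = u0 N ^ n := (exists_pow N n).choose_spec

theorem pt_comp_g {C : Type u} [CommRing C] [Algebra R C] (h : A N →ₐ[R] C) (n : ℕ) :
    pt N (h.comp (g N n)) = pt N h ^ n := by
  rw [pt_comp, pt_g, MonObj.comp_pow]
  rfl

theorem ε_comp_g (n : ℕ) : (ε N).comp (g N n) = ε N :=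
  pt_injective N (by rw [pt_comp_g, pt_ε, one_pow])

theorem g_comp_g (m n : ℕ) : (g N m).comp (g N n) = (g N n).comp (g N m) :=
  pt_injective N (by rw [pt_comp_g, pt_comp_g, pt_g, pt_g, ← pow_mul, ← pow_mul, Nat.mul_comm])

/-- The augmentation ideal. -/
def I : Ideal (A N) := RingHom.ker (ε N)

theorem mem_I {a : A N} : a ∈ I N ↔ ε N a = 0 := Iff.rfl

theorem g_mem_I (n : ℕ) {a : A N} (ha : a ∈ I N) : g N n a ∈ I N := by
  rw [mem_I, ← AlgHom.comp_apply, ε_comp_g]
  exact ha

theorem I_le_maximal : I N ≤ maximalIdeal (A N) := fun a ha => by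
  rw [← comap_ε]
  show ε N a ∈ maximalIdeal R
  rw [(mem_I N).1 ha]
  exact zero_mem _

section Linear

variable {J : Type u} [AddCommGroup J] [Module R J] [Module Rᵐᵒᵖ J] [IsCentralScalar R J]

instance isLocalRing_tsze : IsLocalRing (TrivSqZeroExt R J) :=
  IsLocalRing.of_isUnit_or_isUnit_one_sub_self fun a => by
    rw [TrivSqZeroExt.isUnit_iff_isUnit_fst, TrivSqZeroExt.isUnit_iff_isUnit_fst, TrivSqZeroExt.fst_sub,
      TrivSqZeroExt.fst_one]
    exact IsLocalRing.isUnit_or_isUnit_one_sub_self _

variable {N} in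
/-- The condition to be the infinitesimal part of a point near the unit. -/
def IsTangent (δ : A N →ₗ[R] J) : Prop := ∀ a b, δ (a * b) = ε N a • δ b + ε N b • δ a

variable {N} in
theorem IsTangent.map_one {δ : A N →ₗ[R] J} (hδ : IsTangent δ) : δ 1 = 0 := by
  have h := hδ 1 1
  rw [_root_.one_mul, _root_.map_one (ε N), one_smul] at h
  exact left_eq_add.1 h

variable {N} in
/-- The point of a tangent vector. -/
def hom (δ : A N →ₗ[R] J) (hδ : IsTangent δ) : A N →ₐ[R] TrivSqZeroExt R J :=
  AlgHom.ofLinearMap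
    { toFun := fun a => TrivSqZeroExt.inl (ε N a) + TrivSqZeroExt.inr (δ a)
      map_add' := fun a b => by simp only [map_add, TrivSqZeroExt.inl_add, TrivSqZeroExt.inr_add]; abel
      map_smul' := fun r a => by
        apply TrivSqZeroExt.ext <;> simp }
    (by
      apply TrivSqZeroExt.ext
      · simp
      · simp [hδ.map_one])
    (fun a b => by
      apply TrivSqZeroExt.ext
      · simp
      · simp [hδ a b, add_comm])

theorem fst_hom (δ : A N →ₗ[R] J) (hδ : IsTangent δ) (a : A N) : (hom δ hδ a).fst = ε N a := by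
  simp [hom]

theorem snd_hom (δ : A N →ₗ[R] J) (hδ : IsTangent δ) (a : A N) : (hom δ hδ a).snd = δ a := by
  simp [hom]

theorem map_comp_hom {J' : Type u} [AddCommGroup J'] [Module R J'] [Module Rᵐᵒᵖ J'] [IsCentralScalar R J']
    (δ : A N →ₗ[R] J) (hδ : IsTangent δ) (f : J →ₗ[R] J') (hf : IsTangent (f ∘ₗ δ)) :
    (TrivSqZeroExt.map f).comp (hom δ hδ) = hom (f ∘ₗ δ) hf :=
  AlgHom.ext fun a => by
    apply TrivSqZeroExt.ext <;> simp [hom]

theorem hom_zero (h : IsTangent (0 : A N →ₗ[R] J)) :
    hom (0 : A N →ₗ[R] J) h = (Algebra.ofId R (TrivSqZeroExt R J)).comp (ε N) :=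
  AlgHom.ext fun a => by
    apply TrivSqZeroExt.ext <;> simp [hom, Algebra.ofId_apply, TrivSqZeroExt.algebraMap_eq_inl]

variable {N} in
theorem IsTangent.comp {δ : A N →ₗ[R] J} (hδ : IsTangent δ) {J' : Type u} [AddCommGroup J'] [Module R J']
    (f : J →ₗ[R] J') : IsTangent (f ∘ₗ δ) := fun a b => by
  simp [hδ a b]

variable {N} in
theorem IsTangent.add {δ δ' : A N →ₗ[R] J} (hδ : IsTangent δ) (hδ' : IsTangent δ') : IsTangent (δ + δ') :=
  fun a b => by simp only [LinearMap.add_apply, hδ a b, hδ' a b, smul_add]; abel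

/-- The product of points near the unit adds their tangent vectors. -/
theorem pt_hom_mul (δ δ' : A N →ₗ[R] J) (hδ : IsTangent δ) (hδ' : IsTangent δ') :
    pt N (hom δ hδ) * pt N (hom δ' hδ') = pt N (hom (δ + δ') (hδ.add hδ')) := by
  let h1 := hom (LinearMap.inl R J J ∘ₗ δ) (hδ.comp _)
  let h2 := hom (LinearMap.inr R J J ∘ₗ δ') (hδ'.comp _)
  let Q := pt N h1 * pt N h2
  let π : TrivSqZeroExt R (J × J) →ₐ[R] R := TrivSqZeroExt.fstHom R R (J × J)
  have hπh : ∀ (d : A N →ₗ[R] J × J) (hd : IsTangent d), π.comp (hom d hd) = ε N := fun d hd =>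
    AlgHom.ext fun a => fst_hom N d hd a
  have hπ : sm π ≫ Q = 1 := by
    rw [MonObj.comp_mul, ← pt_comp, ← pt_comp, hπh, hπh, pt_ε, _root_.one_mul]
  obtain ⟨H, hH⟩ := exists_pt N Q (by
    have h3 : (sm π).left (closedPoint R) = closedPoint (TrivSqZeroExt R (J × J)) := by
      haveI : IsLocalHom π.toRingHom := IsLocalHom.of_surjective _ fun r => ⟨TrivSqZeroExt.inl r, rfl⟩
      exact IsLocalRing.comap_closedPoint π.toRingHom
    rw [← h3, ← Scheme.Hom.comp_apply, ← Over.comp_left, hπ]
    haveI : IsLocalHom (algebraMap R R) := ⟨fun a ha => ha⟩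
    exact one_closedPoint N)
  have z : IsTangent (0 : A N →ₗ[R] J) := fun a b => by simp
  have p1 : (TrivSqZeroExt.map (LinearMap.fst R J J)).comp H = hom δ hδ := by
    refine pt_injective N ?_
    rw [pt_comp, hH, MonObj.comp_mul, ← pt_comp, ← pt_comp, map_comp_hom N _ _ _ ((hδ.comp _).comp _),
      map_comp_hom N _ _ _ ((hδ'.comp _).comp _)]
    have e1 : LinearMap.fst R J J ∘ₗ LinearMap.inl R J J ∘ₗ δ = δ := LinearMap.ext fun a => rfl
    have e2 : LinearMap.fst R J J ∘ₗ LinearMap.inr R J J ∘ₗ δ' = 0 := LinearMap.ext fun a => rfl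
    simp only [e1, e2, hom_zero N z, pt_const, _root_.mul_one]
  have p2 : (TrivSqZeroExt.map (LinearMap.snd R J J)).comp H = hom δ' hδ' := by
    refine pt_injective N ?_
    rw [pt_comp, hH, MonObj.comp_mul, ← pt_comp, ← pt_comp, map_comp_hom N _ _ _ ((hδ.comp _).comp _),
      map_comp_hom N _ _ _ ((hδ'.comp _).comp _)]
    have e1 : LinearMap.snd R J J ∘ₗ LinearMap.inl R J J ∘ₗ δ = 0 := LinearMap.ext fun a => rfl
    have e2 : LinearMap.snd R J J ∘ₗ LinearMap.inr R J J ∘ₗ δ' = δ' := LinearMap.ext fun a => rfl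
    simp only [e1, e2, hom_zero N z, pt_const, _root_.one_mul]
  let s : J × J →ₗ[R] J := LinearMap.fst R J J + LinearMap.snd R J J
  have key : (TrivSqZeroExt.map s).comp H = hom (δ + δ') (hδ.add hδ') := AlgHom.ext fun a => by
    have a1 := AlgHom.congr_fun p1 a
    have a2 := AlgHom.congr_fun p2 a
    rw [AlgHom.comp_apply] at a1 a2
    apply TrivSqZeroExt.ext
    · rw [AlgHom.comp_apply, fst_hom]
      have := congrArg TrivSqZeroExt.fst a1
      rw [fst_hom] at this
      simpa using this
    · rw [AlgHom.comp_apply, snd_hom]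
      have b1 := congrArg TrivSqZeroExt.snd a1
      have b2 := congrArg TrivSqZeroExt.snd a2
      rw [snd_hom] at b1 b2
      simp only [TrivSqZeroExt.snd_map] at b1 b2 ⊢
      simp only [LinearMap.fst_apply, LinearMap.snd_apply] at b1 b2
      simp [s, b1, b2]
  rw [← key, pt_comp, hH, MonObj.comp_mul, ← pt_comp, ← pt_comp, map_comp_hom N _ _ _ ((hδ.comp _).comp _),
    map_comp_hom N _ _ _ ((hδ'.comp _).comp _)]
  have e1 : s ∘ₗ LinearMap.inl R J J ∘ₗ δ = δ := LinearMap.ext fun a => by simp [s]
  have e2 : s ∘ₗ LinearMap.inr R J J ∘ₗ δ' = δ' := LinearMap.ext fun a => by simp [s]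
  simp only [e1, e2]

theorem tangent_comp_g (δ : A N →ₗ[R] J) (hδ : IsTangent δ) (n : ℕ) (a : A N) : δ (g N n a) = n • δ a := by
  have h : ∀ n : ℕ, ∀ a, ((hom δ hδ).comp (g N n) a).snd = n • δ a := by
    intro n
    induction n with
    | zero =>
      intro a
      have e : (hom δ hδ).comp (g N 0) = (Algebra.ofId R _).comp (ε N) :=
        pt_injective N (by rw [pt_comp_g, pow_zero, pt_const])
      rw [e, zero_smul]
      simp [Algebra.ofId_apply, TrivSqZeroExt.algebraMap_eq_inl]
    | succ n ih =>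
      intro a
      have hn : IsTangent (n • δ : A N →ₗ[R] J) := fun x y => by
        simp only [LinearMap.smul_apply, hδ x y, smul_add, smul_comm n]
      have e : (hom δ hδ).comp (g N n) = hom (n • δ) hn := AlgHom.ext fun x => by
        apply TrivSqZeroExt.ext
        · rw [AlgHom.comp_apply, fst_hom, fst_hom, ← AlgHom.comp_apply (ε N), ε_comp_g]
        · rw [ih, snd_hom, LinearMap.smul_apply]
      have e' : (hom δ hδ).comp (g N (n + 1)) = hom (n • δ + δ) (hn.add hδ) :=
        pt_injective N (by rw [pt_comp_g, pow_succ, ← pt_comp_g, e, pt_hom_mul])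
      rw [e', snd_hom, LinearMap.add_apply, LinearMap.smul_apply, succ_nsmul]
  have := h n a
  rwa [AlgHom.comp_apply, snd_hom] at this

end Linear

/-- The linear part of the power map. -/
theorem g_sub_mem (n : ℕ) {a : A N} (ha : a ∈ I N) : g N n a - n • a ∈ I N ^ 2 := by
  let J := (I N).Cotangent
  letI : Module Rᵐᵒᵖ J := Module.compHom J ((RingHom.id R).fromOpposite mul_comm)
  haveI : IsCentralScalar R J := ⟨fun r x => rfl⟩
  let d : A N → I N := fun b => ⟨b - algebraMap R (A N) (ε N b), by
    rw [mem_I, map_sub, AlgHom.commutes, Algebra.algebraMap_self, RingHom.id_apply, sub_self]⟩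
  let δ : A N →ₗ[R] J :=
    { toFun := fun b => (I N).toCotangent (d b)
      map_add' := fun b c => by
        rw [← map_add]
        exact congrArg _ (Subtype.ext (by simp only [d, map_add, Submodule.coe_add]; ring))
      map_smul' := fun r b => by
        rw [RingHom.id_apply, ← IsScalarTower.algebraMap_smul (A N) r ((I N).toCotangent (d b)), ← map_smul]
        exact congrArg _ (Subtype.ext (by
          simp only [d, Algebra.smul_def, map_mul, AlgHom.commutes, Algebra.algebraMap_self, RingHom.id_apply,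
            SetLike.val_smul, smul_eq_mul]
          ring)) }
  have hδ : IsTangent δ := fun b c => by
    show (I N).toCotangent (d (b * c)) = ε N b • (I N).toCotangent (d c) + ε N c • (I N).toCotangent (d b)
    rw [← IsScalarTower.algebraMap_smul (A N) (ε N b), ← IsScalarTower.algebraMap_smul (A N) (ε N c),
      ← map_smul, ← map_smul, ← map_add, Ideal.toCotangent_eq, pow_two]
    have e : ((d (b * c) : I N) : A N) - ((algebraMap R (A N) (ε N b) • d c + algebraMap R (A N) (ε N c) • d b : I N) : A N) =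
        (d b : A N) * (d c : A N) := by
      simp only [d, map_mul, Submodule.coe_add, SetLike.val_smul, smul_eq_mul]
      ring
    rw [e]
    exact Ideal.mul_mem_mul (d b).2 (d c).2
  have h := tangent_comp_g N δ hδ n a
  change (I N).toCotangent (d (g N n a)) = n • (I N).toCotangent (d a) at h
  rw [← map_nsmul, Ideal.toCotangent_eq] at h
  simp only [d, AddSubmonoidClass.coe_nsmul, (mem_I N).1 ha, (mem_I N).1 (g_mem_I N n ha), map_zero, sub_zero] at h
  exact h

theorem g_sub_mem_pow (n d : ℕ) (hd : 1 ≤ d) : ∀ b ∈ I N ^ d, g N n b - (n ^ d) • b ∈ I N ^ (d + 1) := by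
  induction d, hd using Nat.le_induction with
  | base =>
    intro b hb
    rw [pow_one] at hb ⊢
    exact g_sub_mem N n hb
  | succ d hd ih =>
    intro b hb
    rw [pow_succ] at hb
    induction hb using Submodule.mul_induction_on' with
    | mem_mul_mem x hx y hy =>
      have hgy : g N n y ∈ I N := g_mem_I N n hy
      have e : g N n (x * y) - n ^ (d + 1) • (x * y) =
          (g N n x - n ^ d • x) * g N n y + n ^ d • (x * (g N n y - n • y)) := by
        rw [map_mul]
        simp only [nsmul_eq_mul, Nat.cast_pow, Nat.cast_mul, pow_succ]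
        ring
      rw [e]
      refine add_mem ?_ (nsmul_mem ?_ _)
      · rw [pow_succ _ (d + 1)]
        exact Ideal.mul_mem_mul (ih x hx) hgy
      · rw [show d + 1 + 1 = d + 2 from rfl, pow_add]
        exact Ideal.mul_mem_mul hx (g_sub_mem N n hy)
    | add x _ y _ hx hy =>
      have : g N n (x + y) - n ^ (d + 1) • (x + y) =
          (g N n x - n ^ (d + 1) • x) + (g N n y - n ^ (d + 1) • y) := by
        rw [map_add, smul_add]; abel
      rw [this]
      exact add_mem hx hy

/-- Powers with exponent the residue characteristic are divisible by it up to high order. -/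
theorem g_prime_mem (p : ℕ) [Fact p.Prime] [CharP (ResidueField R) p] (d : ℕ) (hd2 : 2 ≤ d) (hdp : d ≤ p) :
    ∀ a ∈ I N, g N p a - p • a ∈ Ideal.span {(p : A N)} * I N ^ 2 + I N ^ d := by
  induction d, hd2 using Nat.le_induction with
  | base => exact fun a ha => Submodule.mem_sup_right (g_sub_mem N p ha)
  | succ d hd ih =>
    intro a ha
    have hp := (Fact.out : p.Prime)
    obtain ⟨l, hl⟩ : ∃ l : ℕ, (l : ZMod p) ^ d ≠ (l : ZMod p) := by
      obtain ⟨ζ, hζ⟩ := IsCyclic.exists_generator (α := (ZMod p)ˣ)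
      refine ⟨(ζ : ZMod p).val, fun h => ?_⟩
      rw [ZMod.natCast_val, ZMod.cast_id', id] at h
      have h' : ζ ^ (d - 1) = 1 := Units.ext (by
        rw [Units.val_pow_eq_pow_val, Units.val_one]
        exact mul_right_cancel₀ ζ.ne_zero (by rw [← pow_succ, show d - 1 + 1 = d by omega, _root_.one_mul, h]))
      have h'' := orderOf_dvd_of_pow_eq_one h'
      rw [orderOf_eq_card_of_forall_mem_zpowers hζ, Nat.card_eq_fintype_card, ZMod.card_units] at h''
      have := Nat.le_of_dvd (by omega) h''
      omega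
    let K : Ideal (A N) := Ideal.span {(p : A N)} * I N ^ 2 + I N ^ (d + 1)
    have ih' := ih (by omega)
    have hsq : ∀ w ∈ I N ^ 2, g N p w - p • w ∈ K := by
      intro w hw
      rw [pow_two] at hw
      induction hw using Submodule.mul_induction_on' with
      | mem_mul_mem x hx y hy =>
        have ex := ih' x hx
        have ey := ih' y hy
        have hb : ∀ z ∈ I N, g N p z ∈ Ideal.span {(p : A N)} * I N + I N ^ d := fun z hz => by
          have e : g N p z = (g N p z - p • z) + (p : A N) * z := by rw [nsmul_eq_mul]; ring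
          rw [e]
          refine add_mem ?_ (Submodule.mem_sup_left (Ideal.mul_mem_mul (Ideal.mem_span_singleton_self _) hz))
          exact (show Ideal.span {(p : A N)} * I N ^ 2 + I N ^ d ≤ Ideal.span {(p : A N)} * I N + I N ^ d from
            sup_le_sup_right (Ideal.mul_mono le_rfl (Ideal.pow_le_self two_ne_zero)) _) (ih' z hz)
        refine sub_mem ?_ ?_
        · rw [map_mul]
          refine (?_ : (Ideal.span {(p : A N)} * I N + I N ^ d) * I N ≤ K)
            (Ideal.mul_mem_mul (hb x hx) (g_mem_I N p hy))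
          rw [show Ideal.span {(p : A N)} * I N + I N ^ d = Ideal.span {(p : A N)} * I N ⊔ I N ^ d from rfl,
            Ideal.sup_mul, _root_.mul_assoc, ← pow_two, ← pow_succ]
          exact le_rfl
        · refine Submodule.mem_sup_left ?_
          rw [nsmul_eq_mul, pow_two]
          exact Ideal.mul_mem_mul (Ideal.mem_span_singleton_self _) (Ideal.mul_mem_mul hx hy)
      | add x _ y _ hx hy =>
        have : g N p (x + y) - p • (x + y) = (g N p x - p • x) + (g N p y - p • y) := by
          rw [map_add, smul_add]; abel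
        rw [this]
        exact add_mem hx hy
    obtain ⟨c, hc, t, ht, hct⟩ := Submodule.mem_sup.1 (ih' a ha)
    have h1 : g N l (g N p a - p • a) = g N p (g N l a) - p • g N l a := by
      rw [map_sub, map_nsmul, ← AlgHom.comp_apply, g_comp_g, AlgHom.comp_apply]
    have hl1 : g N l a - l • a ∈ I N ^ 2 := g_sub_mem N l ha
    have h2 : (g N p (g N l a) - p • g N l a) - l • (g N p a - p • a) ∈ K := by
      have := hsq _ hl1
      rw [map_sub, map_nsmul, smul_sub, smul_comm p l a] at this
      convert this using 1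
      rw [smul_sub]
      abel
    have hc' : ∀ c' ∈ Ideal.span {(p : A N)} * I N ^ 2, g N l c' ∈ K := by
      intro c' hc'
      obtain ⟨z, hz, rfl⟩ := Ideal.mem_span_singleton_mul.1 hc'
      rw [map_mul, map_natCast]
      refine Submodule.mem_sup_left (Ideal.mul_mem_mul (Ideal.mem_span_singleton_self _) ?_)
      rw [pow_two] at hz ⊢
      refine Submodule.mul_induction_on hz (fun x hx y hy => ?_) (fun x y hx hy => ?_)
      · rw [map_mul]; exact Ideal.mul_mem_mul (g_mem_I N l hx) (g_mem_I N l hy)
      · rw [map_add]; exact add_mem hx hy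
    have h3 : ((l : A N) ^ d - (l : A N)) * t ∈ K := by
      have e : ((l : A N) ^ d - (l : A N)) * t = ((g N p (g N l a) - p • g N l a) - l • (g N p a - p • a))
          - g N l c + (l : A N) * c - (g N l t - l ^ d • t) := by
        rw [← h1, ← hct, map_add, nsmul_eq_mul, nsmul_eq_mul, Nat.cast_pow]
        ring
      rw [e]
      exact sub_mem (add_mem (sub_mem h2 (hc' c hc)) (Submodule.mem_sup_left (Ideal.mul_mem_left _ _ hc)))
        (Submodule.mem_sup_right (g_sub_mem_pow N l d (by omega) t ht))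
    have hu : IsUnit ((l : A N) ^ d - (l : A N)) := by
      have hR : IsUnit ((l : R) ^ d - (l : R)) := by
        rw [← residue_ne_zero_iff_isUnit, map_sub, map_pow, map_natCast, sub_ne_zero]
        intro h
        refine hl ?_
        have := (ZMod.castHom (dvd_refl p) (ResidueField R)).injective
        apply this
        simpa using h
      simpa using hR.map (algebraMap R (A N))
    have ht' : t ∈ K := (Ideal.unit_mul_mem_iff_mem _ hu).1 h3
    rw [← hct]
    exact add_mem (Submodule.mem_sup_left hc) ht'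

variable [IsDomain R] [IsDiscreteValuationRing R]

theorem eq_const_of_comp_g (p : ℕ) [Fact p.Prime] [CharP (ResidueField R) p] (hp0 : (p : R) ≠ 0)
    (hv : (p : R) ∉ maximalIdeal R ^ (p - 1)) (χ : A N →ₐ[R] R) (hχ : (maximalIdeal R).comap χ = maximalIdeal (A N))
    (q : ℕ) (hq : q.Prime) (h : χ.comp (g N q) = ε N) : χ = ε N := by
  classical
  obtain ⟨π, hπ⟩ := IsDiscreteValuationRing.exists_irreducible R
  by_contra hne
  have hQ : ∃ a ∈ I N, χ a ≠ 0 := by
    by_contra hall
    push Not at hall
    refine hne (AlgHom.ext fun a => ?_)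
    have := hall (a - algebraMap R (A N) (ε N a)) (by simp [mem_I])
    rw [map_sub, AlgHom.commutes, Algebra.algebraMap_self, RingHom.id_apply, sub_eq_zero] at this
    exact this
  have hdvd : ∀ a ∈ I N, π ∣ χ a := fun a ha => by
    have h1 : a ∈ (maximalIdeal R).comap χ := hχ ▸ I_le_maximal N ha
    rwa [Ideal.mem_comap, hπ.maximalIdeal_eq, Ideal.mem_span_singleton] at h1
  have hjex : ∃ j, ∃ a ∈ I N, ¬ π ^ (j + 1) ∣ χ a := by
    obtain ⟨a, ha, hne0⟩ := hQ
    obtain ⟨m, u, hm⟩ := IsDiscreteValuationRing.eq_unit_mul_pow_irreducible hne0 hπ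
    refine ⟨m, a, ha, fun hd => ?_⟩
    rw [hm, pow_succ, mul_comm (u : R), mul_dvd_mul_iff_left (pow_ne_zero _ hπ.ne_zero)] at hd
    exact hπ.not_isUnit (isUnit_of_dvd_unit hd u.isUnit)
  let j := Nat.find hjex
  obtain ⟨a, ha, haj⟩ := Nat.find_spec hjex
  have hjmin : ∀ b ∈ I N, π ^ j ∣ χ b := by
    intro b hb
    rcases Nat.eq_zero_or_pos j with h0 | h0
    · rw [h0, pow_zero]; exact one_dvd _
    · have := Nat.find_min hjex (show j - 1 < j by omega)
      push Not at this
      simpa [show j - 1 + 1 = j by omega] using this b hb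
  have hj1 : 1 ≤ j := by
    rcases Nat.eq_zero_or_pos j with h0 | h0
    · exact absurd (by simpa [show Nat.find hjex = 0 from h0] using hdvd a ha) haj
    · exact h0
  have hpow : ∀ m : ℕ, ∀ b ∈ I N ^ m, π ^ (m * j) ∣ χ b := by
    intro m b hb
    have hle : (I N).map χ ≤ Ideal.span {π ^ j} :=
      Ideal.map_le_iff_le_comap.2 fun c hc => Ideal.mem_span_singleton.2 (hjmin c hc)
    have h1 : χ b ∈ (I N ^ m).map χ := Ideal.mem_map_of_mem _ hb
    rw [Ideal.map_pow] at h1
    have h2 := Ideal.pow_right_mono hle m h1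
    rwa [Ideal.span_singleton_pow, ← pow_mul, mul_comm, Ideal.mem_span_singleton] at h2
  obtain ⟨u, hu, hua⟩ : ∃ u : R, ¬ π ∣ u ∧ χ a = π ^ j * u := by
    obtain ⟨u, hu⟩ := hjmin a ha
    exact ⟨u, fun hd => haj (by rw [hu, pow_succ]; exact mul_dvd_mul_left _ hd), hu⟩
  have h0 : χ (g N q a) = 0 := by
    rw [← AlgHom.comp_apply, h]
    exact ha
  rcases eq_or_ne q p with rfl | hqp
  · obtain ⟨v, w, hw⟩ := IsDiscreteValuationRing.eq_unit_mul_pow_irreducible hp0 hπ
    have hvp : v + 2 ≤ q := by
      by_contra hlt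
      refine hv ?_
      rw [hπ.maximalIdeal_eq, Ideal.span_singleton_pow, Ideal.mem_span_singleton, hw]
      exact dvd_mul_of_dvd_right (pow_dvd_pow π (by omega)) _
    obtain ⟨c, hc, t, ht, hct⟩ := Submodule.mem_sup.1 (g_prime_mem N q q (hq.two_le) le_rfl a ha)
    obtain ⟨z, hz, rfl⟩ := Ideal.mem_span_singleton_mul.1 hc
    obtain ⟨z', hz'⟩ := hpow 2 z hz
    obtain ⟨t', ht'⟩ := hpow q t ht
    have e : χ ((q : A N) * z + t) = χ (g N q a - q • a) := by rw [hct]
    rw [map_sub, map_nsmul, h0, zero_sub, map_add, map_mul, map_natCast, nsmul_eq_mul, hz', ht', hua, hw] at e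
    obtain ⟨i, hi⟩ := Nat.exists_eq_add_of_le (show v + j + 1 ≤ q * j by
      obtain ⟨k, hk⟩ : ∃ k, j = k + 1 := ⟨j - 1, by omega⟩
      rw [hk]
      nlinarith)
    obtain ⟨i', hi'⟩ := Nat.exists_eq_add_of_le (show j + 1 ≤ 2 * j by omega)
    rw [hi, hi'] at e
    have h1 : π ^ (v + j) * ((w : R) * u) = π ^ (v + j) * (π * (-((w : R) * π ^ i' * z' + π ^ i * t'))) := by
      simp only [pow_add, pow_one] at e ⊢
      linear_combination e
    have h2 := mul_left_cancel₀ (pow_ne_zero _ hπ.ne_zero) h1
    rcases hπ.prime.dvd_or_dvd (Dvd.intro _ h2.symm) with hd | hd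
    · exact hπ.not_isUnit (isUnit_of_dvd_unit hd w.isUnit)
    · exact hu hd
  · have hqu : ¬ π ∣ (q : R) := by
      rw [← Ideal.mem_span_singleton, ← hπ.maximalIdeal_eq, ← residue_eq_zero_iff, map_natCast]
      intro h'
      exact hqp ((Nat.prime_dvd_prime_iff_eq (Fact.out : p.Prime) hq).1 ((CharP.cast_eq_zero_iff _ p q).1 h')).symm
    obtain ⟨z, hz⟩ := hpow 2 _ (g_sub_mem N q ha)
    rw [map_sub, map_nsmul, h0, zero_sub, nsmul_eq_mul, hua, two_mul, pow_add] at hz
    have h1 : π ^ j * ((q : R) * u) = π ^ j * (-(π ^ j * z)) := by linear_combination -hz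
    have h2 := mul_left_cancel₀ (pow_ne_zero _ hπ.ne_zero) h1
    have h3 : π ∣ (q : R) * u := by
      rw [h2, dvd_neg]
      exact dvd_mul_of_dvd_left (dvd_pow_self π (by omega)) _
    rcases hπ.prime.dvd_or_dvd h3 with hd | hd
    · exact hqu hd
    · exact hu hd

/-- No small torsion reduces to the unit. -/
theorem eq_const_of_pt_pow (p : ℕ) [Fact p.Prime] [CharP (ResidueField R) p] (hp0 : (p : R) ≠ 0)
    (hv : (p : R) ∉ maximalIdeal R ^ (p - 1)) (n : ℕ) :
    ∀ χ : A N →ₐ[R] R, 0 < n → (maximalIdeal R).comap χ = maximalIdeal (A N) → pt N χ ^ n = 1 → χ = ε N := by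
  induction n using Nat.strong_induction_on with
  | _ n ih =>
    intro χ hn hχ hχn
    rcases eq_or_ne n 1 with rfl | hn1
    · exact pt_injective N (by rw [pt_ε, ← hχn, pow_one])
    obtain ⟨q, hq, m, rfl⟩ := Nat.exists_prime_and_dvd hn1
    refine eq_const_of_comp_g N p hp0 hv χ hχ q hq ?_
    refine ih m ?_ _ (pos_of_mul_pos_right hn (Nat.zero_le q)) ?_ (by rw [pt_comp_g, ← pow_mul, hχn])
    · exact lt_mul_of_one_lt_left (pos_of_mul_pos_right hn (Nat.zero_le q)) hq.one_lt
    · rw [show (maximalIdeal R).comap (χ.comp (g N q)) = ((maximalIdeal R).comap χ).comap (g N q) from rfl, hχ,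
        ← comap_ε]
      exact congrArg (fun f : A N →ₐ[R] R => (maximalIdeal R).comap f) (ε_comp_g N q)

end Groth.Agent.GrpExtLib.Formal
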